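/-
helper37, project BHRSU: the SU rows S5811 (SU7) S5820 (SU8) S5832 (SU9) S5841 (SU10) S5856 (SU11) S5865 (SU12)
as corollaries of the refined unitary Aschbacher theorem (project ASCHU, helper70 + helper20).
Definitions only.
-/
import Mathlib
import Cfsg.Prelude.Def_GeometricClasses
import Cfsg.Agent.Lib.Helper70.AschU.DefsR

set_option autoImplicit false

namespace Cfsg.Agent.Lib.Helper37.BHRSU

open Cfsg Cfsg.Geo Cfsg.Agent.Lib.Helper70.AschU
open scoped MatrixGroups

/-- `SU_n(q)` inside `GL (Fin n) F`: the frozen `GU n F q ⊓ specialLinear (Fin n) F` (reducible abbreviation, so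
statements about `SUg n F q` are syntactically statements about the frozen expression). -/
abbrev SUg (n : ℕ) (F : Type*) [Field F] (q : ℕ) : Subgroup (GL (Fin n) F) :=
  GU n F q ⊓ specialLinear (Fin n) F

/-- The input of the row sheet: the refined form of S5663 (class 6 carries `n = r ^ k`), to be delivered by project
ASCHU.  Every row module takes it as a hypothesis. -/
def AschUR (n : ℕ) (F : Type*) [Field F] [Fintype F] (q : ℕ) : Prop :=
  ∀ H : Subgroup (GL (Fin n) F), H ≤ SUg n F q →
    H ⊔ (scalars (Fin n) F ⊓ SUg n F q) ≠ SUg n F q →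
    UGeoR q H ∨ InUnitaryResidualClass H

end Cfsg.Agent.Lib.Helper37.BHRSU
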