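/-
BHRSU-[E-D2Q2], BHRSU-[E-MAX] (helper37): the non-maximal exceptions at `q = 2`.
-/
import Mathlib
import Cfsg.Prelude.Def_GeometricClasses
import Cfsg.Prelude.Def_ClassicalGeometry
import Cfsg.Agent.Lib.Helper37.BHRSU.Defs
import Cfsg.Agent.Lib.Helper94.UnitBridge

set_option linter.unusedSectionVars false

namespace Cfsg.Agent.Lib.Helper37.BHRSU

open Cfsg Cfsg.Geo Cfsg.Agent.Lib.Helper70.AschU
open scoped MatrixGroups

variable {F : Type*} [Field F] [Fintype F] {n q : ℕ}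

/-- BHRSU-[E-D2Q2]  the proof of `Cfsg/Agent/S5656.lean` (it never uses `13 ≤ n`). -/
theorem exists_between_decomp_two (hF : Fintype.card F = 4) {t : ℕ} (D : Fin t → Submodule F (Fin n → F))
    (hD : IsNondegenerateMDecomposition (hermForm n F 2) 2 D) :
    ∃ K : Subgroup (GL (Fin n) F), decompositionStabilizer D ⊓ SUg n F 2 < K ∧ K < SUg n F 2 := by
  classical
  have hH := Cfsg.Agent.Lib.Helper94.hermData_hermForm_four hF n
  have h2 : (2 : F) = 0 := Cfsg.Agent.Lib.Helper94.HermData.two_eq_zero_of_card_four hF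
  have ht := hD.decomp.two_le
  have horth : ∀ i j, i ≠ j → ∀ u ∈ D i, ∀ v ∈ D j, Cfsg.hermForm n F 2 u v = 0 :=
    fun i j hij u hu v hv => hD.orthogonal i j hij u hu v hv
  have hnd : ∀ i, ∀ x ∈ D i, (∀ y ∈ D i, Cfsg.hermForm n F 2 x y = 0) → x = 0 := by
    intro i x hx hxy
    by_contra hx0
    obtain ⟨_, y, hy, hne⟩ := hD.nondegenerate i x hx hx0
    exact hne (hxy y hy)
  obtain ⟨i0, hi0⟩ : ∃ i0 : Fin t, i0 = ⟨0, by omega⟩ := ⟨_, rfl⟩
  obtain ⟨i1, hi1⟩ : ∃ i1 : Fin t, i1 = ⟨1, by omega⟩ := ⟨_, rfl⟩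
  have h01 : i0 ≠ i1 := by rw [hi0, hi1]; intro h; simp [Fin.ext_iff] at h
  obtain ⟨x, x', hx, hx', nx, nx', oxx', hPx⟩ :=
    hH.exists_unice2 hF (fun a => rfl) (D i0) (hD.decomp.finrank_eq i0) (hnd i0)
  obtain ⟨y, y', hy, hy', ny, ny', oyy', hPy⟩ :=
    hH.exists_unice2 hF (fun a => rfl) (D i1) (hD.decomp.finrank_eq i1) (hnd i1)
  show ∃ K : Subgroup (GL (Fin n) F), decompositionStabilizer D ⊓ (GU n F 2 ⊓ specialLinear (Fin n) F) < K ∧
    K < GU n F 2 ⊓ specialLinear (Fin n) F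
  apply Cfsg.Agent.Lib.Helper94.exists_between_of_map (Cfsg.Agent.Lib.Helper94.glEquiv (Fin n) F)
  rw [Cfsg.Agent.Lib.Helper94.map_inf_equiv, Cfsg.Agent.Lib.Helper94.map_inf_equiv,
    Cfsg.Agent.Lib.Helper94.map_decompositionStabilizer, Cfsg.Agent.Lib.Helper94.map_GU,
    Cfsg.Agent.Lib.Helper94.map_specialLinear]
  exact hH.exists_between_uframe h2 (by norm_num) D horth h01 hx hx' hy hy' nx nx' ny ny' oxx' oyy'
    hPx hPy

/-- BHRSU-[E-MAX] -/
theorem not_isMaximalIn_of_between {G : Type*} [Group G] {A B K : Subgroup G} (h1 : A < K) (h2 : K < B) :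
    ¬ IsMaximalIn B A := by
  intro h
  rcases h.2 K h1.le h2.le with h3 | h3
  · exact h1.ne' h3
  · exact h2.ne h3

theorem two_le_q (hF : Fintype.card F = q ^ 2) : 2 ≤ q := by
  have h1 : 1 < Fintype.card F := Fintype.one_lt_card
  rw [hF] at h1
  by_contra h
  have : q = 0 ∨ q = 1 := by omega
  rcases this with rfl | rfl <;> simp at h1

end Cfsg.Agent.Lib.Helper37.BHRSU
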