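/-
helper37, project BHRSU: the KIT.  `SU_n(q) = GU n F q ⊓ specialLinear (Fin n) F` inside `GL (Fin n) F`:
transvections, generation, perfectness, normal subgroups.
-/
import Mathlib
import Cfsg.Prelude.Def_GeometricClasses
import Cfsg.Prelude.Def_ClassicalGeometry
import Cfsg.Agent.Lib.Helper37.BHRSU.Defs
import Cfsg.Agent.Lib.Helper37.UnitaryGen
import Cfsg.Agent.Lib.Helper37.UnitarySimple
import Cfsg.Agent.Lib.Helper13.Herm
import Cfsg.Agent.Lib.Helper13.UnitMaxBridge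

set_option autoImplicit false

namespace Cfsg.Agent.Lib.Helper37.BHRSU

open Cfsg Cfsg.Geo Cfsg.Agent.Lib.Helper70.AschU
open Matrix Cfsg.Agent.S0837 Cfsg.Agent.S0781 Cfsg.Agent.S2644 Cfsg.Agent.Lib.Helper37
open scoped MatrixGroups

variable {F : Type*} [Field F] [Fintype F] {n q : ℕ}

namespace Kit

omit [Fintype F] in
/-- membership in `SUg` in terms of `UG σ n` -/
theorem mem_SUg_iff (σ : F →+* F) (hσ : ∀ x, σ x = x ^ q) (g : GL (Fin n) F) :
    g ∈ SUg n F q ↔ g ∈ UG σ n ∧ (g : Matrix (Fin n) (Fin n) F).det = 1 := by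
  rw [Subgroup.mem_inf, Cfsg.Agent.Lib.Helper13.mem_GU_iff_mem_UG σ hσ,
    Cfsg.Agent.Lib.Helper13.mem_specialLinear_iff]

/-- `TG σ n ≤ SUg` -/
theorem TG_le_SUg (σ : F →+* F) (hσ : ∀ x, σ x = x ^ q) (hσ2 : ∀ a, σ (σ a) = a) :
    TG σ n ≤ SUg n F q := by
  intro g hg
  rw [mem_SUg_iff σ hσ]
  exact ⟨TG_le_UG σ hσ2 hg, det_of_mem_TG σ g hg⟩

/-- `SUg = TG σ n` for `n ≥ 4` -/
theorem SUg_eq_TG (hF : Fintype.card F = q ^ 2) (hn : 4 ≤ n) (σ : F →+* F) (hσ : ∀ x, σ x = x ^ q)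
    (hσ2 : ∀ a, σ (σ a) = a) : SUg n F q = TG σ n := by
  have hne := frob_ne_id σ hF hσ
  apply le_antisymm
  · intro g hg
    rw [mem_SUg_iff σ hσ] at hg
    exact su_gen σ hne hσ2 n (by omega) (fun h => by omega) g hg.1 hg.2
  · exact TG_le_SUg σ hσ hσ2

end Kit

open Kit

/-- BHRSU-[K-TV]  the unitary transvections lie in `SU`. -/
theorem exists_tv (hF : Fintype.card F = q ^ 2) (v : Fin n → F) (hv : hermForm n F q v v = 0) (c : F)
    (hc : c + c ^ q = 0) :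
    ∃ g ∈ SUg n F q, (g : Matrix (Fin n) (Fin n) F) = unitaryTransvection n q v c := by
  obtain ⟨σ, hσ, hσ2⟩ := Cfsg.Agent.Lib.Helper13.exists_frob hF
  have hvv : hf σ v v = 0 := by rw [← hermForm_eq_hf σ hσ]; exact hv
  have hc' : c + σ c = 0 := by rw [hσ]; exact hc
  refine ⟨tvGL σ v c hvv, TG_le_SUg σ hσ hσ2 (tvGL_mem σ v c hvv hc'), ?_⟩
  show tv σ v c = unitaryTransvection n q v c
  rw [unitaryTransvection_eq_sieg σ hσ]
  rfl

/-- BHRSU-[K-GEN]  `SU_n(q)`, `n ≥ 4`, is generated by the unitary transvections. -/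
theorem SUg_le_of_tv (hF : Fintype.card F = q ^ 2) (hn : 4 ≤ n) (K : Subgroup (GL (Fin n) F))
    (h : ∀ g ∈ SUg n F q, (∃ (v : Fin n → F) (c : F), hermForm n F q v v = 0 ∧ c + c ^ q = 0 ∧
      (g : Matrix (Fin n) (Fin n) F) = unitaryTransvection n q v c) → g ∈ K) : SUg n F q ≤ K := by
  obtain ⟨σ, hσ, hσ2⟩ := Cfsg.Agent.Lib.Helper13.exists_frob hF
  rw [SUg_eq_TG hF hn σ hσ hσ2]
  unfold TG
  rw [Subgroup.closure_le]
  rintro g ⟨z, c, hz, hc, hg⟩
  apply h g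
  · apply TG_le_SUg σ hσ hσ2
    exact Subgroup.subset_closure ⟨z, c, hz, hc, hg⟩
  · refine ⟨z, c, ?_, ?_, ?_⟩
    · rw [hermForm_eq_hf σ hσ]; exact hz
    · rw [← hσ]; exact hc
    · rw [hg, unitaryTransvection_eq_sieg σ hσ]
      rfl

/-- BHRSU-[K-PERF]  `SU_n(q)`, `n ≥ 4`, is perfect. -/
theorem commutator_SUg (hF : Fintype.card F = q ^ 2) (hn : 4 ≤ n) :
    ⁅SUg n F q, SUg n F q⁆ = SUg n F q := by
  obtain ⟨σ, hσ, hσ2⟩ := Cfsg.Agent.Lib.Helper13.exists_frob hF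
  have hne := frob_ne_id σ hF hσ
  apply le_antisymm
  · rw [Subgroup.commutator_le]
    intro g₁ h₁ g₂ h₂
    exact (SUg n F q).mul_mem ((SUg n F q).mul_mem ((SUg n F q).mul_mem h₁ h₂)
      ((SUg n F q).inv_mem h₁)) ((SUg n F q).inv_mem h₂)
  · apply SUg_le_of_tv hF hn
    rintro g hg ⟨v, c, hv, hc, hgm⟩
    have hvv : hf σ v v = 0 := by rw [← hermForm_eq_hf σ hσ]; exact hv
    have hc' : c + σ c = 0 := by rw [hσ]; exact hc
    by_cases hv0 : v = 0
    · have : g = 1 := by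
        apply Units.ext
        rw [hgm, hv0]
        unfold unitaryTransvection
        simp
      rw [this]
      exact Subgroup.one_mem _
    obtain ⟨u₁, u₂, β₁, β₂, hu₁, hu₂, hβ₁, hβ₂, hcomm⟩ :=
      exists_siegel_pair σ hne hσ2 (by omega) v hv0 hvv c hc'
    set B : GL (Fin n) F := siegGL σ hσ2 v u₁ β₁ hvv hu₁ hβ₁ with hB
    set C : GL (Fin n) F := siegGL σ hσ2 v u₂ β₂ hvv hu₂ hβ₂ with hC
    have hBm : B ∈ SUg n F q := by
      rw [mem_SUg_iff σ hσ]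
      exact ⟨siegGL_mem_UG σ hσ2 v u₁ β₁ hvv hu₁ hβ₁, sieg_det σ hσ2 v u₁ β₁ hvv hu₁⟩
    have hCm : C ∈ SUg n F q := by
      rw [mem_SUg_iff σ hσ]
      exact ⟨siegGL_mem_UG σ hσ2 v u₂ β₂ hvv hu₂ hβ₂, sieg_det σ hσ2 v u₂ β₂ hvv hu₂⟩
    have hgBC : g = B * C * B⁻¹ * C⁻¹ := by
      rw [eq_mul_inv_iff_mul_eq, eq_mul_inv_iff_mul_eq]
      apply Units.ext
      show (g : Matrix (Fin n) (Fin n) F) * sieg σ v u₂ β₂ * sieg σ v u₁ β₁ =
        sieg σ v u₁ β₁ * sieg σ v u₂ β₂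
      rw [hgm, unitaryTransvection_eq_sieg σ hσ, hcomm, Matrix.mul_assoc]
    have hmem := Subgroup.commutator_mem_commutator hBm hCm
    rw [commutatorElement_def] at hmem
    rw [hgBC]
    exact hmem

/-! ### isotropic vectors -/

namespace Kit

section sigma
variable {F : Type*} [Field F] (σ : F →+* F) {n : ℕ}

/-- matrix version of `eig_eq_of_nonperp` -/
theorem eig_eq_of_nonperp' (hσ : σ ≠ RingHom.id F) (hσ2 : ∀ a, σ (σ a) = a)
    (M : Matrix (Fin n) (Fin n) F)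
    (h : ∀ u : Fin n → F, u ≠ 0 → hf σ u u = 0 → ∃ l : F, M *ᵥ u = l • u)
    (x y : Fin n → F) (hx : hf σ x x = 0) (hy : hf σ y y = 0) (hyx : hf σ y x ≠ 0) (a b : F)
    (hgx : M *ᵥ x = a • x) (hgy : M *ᵥ y = b • y) : a = b := by
  obtain ⟨ε, hε, hε0⟩ := exists_trace_zero_ne σ hσ hσ2
  set d := hf σ y x with hd
  have hxy : hf σ x y = σ d := hf_symm σ hσ2 x y
  have hσd : σ d ≠ 0 := map_ne_zero_of_invol σ hσ2 hyx
  obtain ⟨w, hw⟩ : ∃ w, w = x + (ε / d) • y := ⟨_, rfl⟩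
  have hww : hf σ w w = 0 := by
    rw [hw]
    simp only [hf_add_left, hf_add_right, hf_smul_left, hf_smul_right, hx, hy, hxy, ← hd,
      map_div₀]
    have h1 : ε / d * d = ε := div_mul_cancel₀ _ hyx
    have h2 : σ ε / σ d * σ d = σ ε := div_mul_cancel₀ _ hσd
    linear_combination h1 + h2 + hε0
  have hwx : hf σ w x = ε := by
    rw [hw, hf_add_left, hf_smul_left, hx, ← hd, div_mul_cancel₀ _ hyx, zero_add]
  have hw0 : w ≠ 0 := by
    rintro rfl
    rw [hf_zero_left] at hwx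
    exact hε hwx.symm
  obtain ⟨c, hc⟩ := h w hw0 hww
  have hgw : M *ᵥ w = a • x + (ε / d * b) • y := by
    rw [hw, mulVec_add, mulVec_smul, hgx, hgy, smul_smul]
  rw [hgw, hw] at hc
  have h1 := congrArg (fun z => hf σ z y) hc
  have h2 := congrArg (fun z => hf σ z x) hc
  simp only [hf_add_left, hf_smul_left, hx, hy, hxy, ← hd] at h1 h2
  have hac : a = c := by
    have : (a - c) * σ d = 0 := by linear_combination h1
    rcases mul_eq_zero.mp this with h3 | h3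
    · linear_combination h3
    · exact absurd h3 hσd
  have hbc : b = c := by
    have h3 : ε / d * d = ε := div_mul_cancel₀ _ hyx
    have : (b - c) * ε = 0 := by
      have h4 : ε / d * b * d = c * (ε / d * d) := by linear_combination h2
      rw [h3] at h4
      have h5 : ε / d * b * d = b * (ε / d * d) := by ring
      rw [h5, h3] at h4
      linear_combination h4
    rcases mul_eq_zero.mp this with h3 | h3
    · linear_combination h3
    · exact absurd h3 hε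
  rw [hac, hbc]

/-- every vector is a combination of isotropic vectors: explicit form -/
theorem exists_iso_decomp [Finite F] (hσ : σ ≠ RingHom.id F) (hσ2 : ∀ a, σ (σ a) = a) (hn : 2 ≤ n)
    (y : Fin n → F) : ∃ (u v z : Fin n → F) (a b c : F), hf σ u u = 0 ∧ hf σ v v = 0 ∧ hf σ z z = 0 ∧
      y = a • u + b • v + c • z := by
  obtain ⟨u₁, v₁, hp⟩ := exists_HP σ hσ hσ2 hn
  obtain ⟨x, hx⟩ : ∃ x, x = pr σ u₁ v₁ y := ⟨_, rfl⟩
  have hxu : hf σ x u₁ = 0 := by rw [hx]; exact hf_pr_u σ hp y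
  have hxv : hf σ x v₁ = 0 := by rw [hx]; exact hf_pr_v σ hσ2 hp y
  have hux : hf σ u₁ x = 0 := by rw [hf_symm σ hσ2, hxu, map_zero]
  have hvx : hf σ v₁ x = 0 := by rw [hf_symm σ hσ2, hxv, map_zero]
  obtain ⟨α, hα⟩ := trace_surj σ hσ hσ2 (-(hf σ x x)) (by rw [map_neg, hf_self_fixed σ hσ2])
  obtain ⟨z, hz⟩ : ∃ z, z = x + α • u₁ + v₁ := ⟨_, rfl⟩
  have hzz : hf σ z z = 0 := by
    rw [hz]
    simp only [hf_add_left, hf_add_right, hf_smul_left, hf_smul_right, hp.uu, hp.vv, hp.vu,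
      hp.uv hσ2, hxu, hxv, hux, hvx]
    linear_combination hα
  have hxz : x = z - α • u₁ - v₁ := by rw [hz]; abel
  have hy := pr_eq σ u₁ v₁ y
  rw [← hx] at hy
  refine ⟨u₁, v₁, z, hf σ y v₁ - α, hf σ y u₁ - 1, 1, hp.uu, hp.vv, hzz, ?_⟩
  rw [hy, hxz]
  have e1 : hf σ (hf σ y v₁ • u₁ + hf σ y u₁ • v₁ + (z - α • u₁ - v₁)) v₁ = hf σ y v₁ := by
    rw [← hxz, ← hy]
  have e2 : hf σ (hf σ y v₁ • u₁ + hf σ y u₁ • v₁ + (z - α • u₁ - v₁)) u₁ = hf σ y u₁ := by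
    rw [← hxz, ← hy]
  rw [e1, e2]
  module

/-- a matrix having every isotropic vector as an eigenvector is scalar -/
theorem scalar_of_isotropic_eigen' [Finite F] (hσ : σ ≠ RingHom.id F) (hσ2 : ∀ a, σ (σ a) = a)
    (hn : 2 ≤ n) (M : Matrix (Fin n) (Fin n) F)
    (h : ∀ u : Fin n → F, u ≠ 0 → hf σ u u = 0 → ∃ l : F, M *ᵥ u = l • u) :
    ∃ a : F, M = a • (1 : Matrix (Fin n) (Fin n) F) := by
  obtain ⟨u₁, v₁, hp⟩ := exists_HP σ hσ hσ2 hn
  obtain ⟨a, ha⟩ := h u₁ hp.ne_zero hp.uu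
  have hiso : ∀ w : Fin n → F, hf σ w w = 0 → M *ᵥ w = a • w := by
    intro w hww
    by_cases hw0 : w = 0
    · rw [hw0, mulVec_zero, smul_zero]
    obtain ⟨c, hc⟩ := h w hw0 hww
    obtain ⟨z, hzz, hzu, hzw⟩ := exists_common σ hσ hσ2 u₁ w hp.ne_zero hw0 hp.uu hww
    have hz0 : z ≠ 0 := by
      rintro rfl
      exact hzu (hf_zero_left σ u₁)
    obtain ⟨b, hb⟩ := h z hz0 hzz
    have h1 := eig_eq_of_nonperp' σ hσ hσ2 M h u₁ z hp.uu hzz hzu a b ha hb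
    have h2 := eig_eq_of_nonperp' σ hσ hσ2 M h w z hww hzz hzw c b hc hb
    rw [hc, h2, ← h1]
  refine ⟨a, ?_⟩
  apply Matrix.toLin'.injective
  apply LinearMap.ext
  intro y
  obtain ⟨u, v, z, α, β, γ, hu, hv, hz, rfl⟩ := exists_iso_decomp σ hσ hσ2 hn y
  rw [Matrix.toLin'_apply, Matrix.toLin'_apply, Matrix.smul_mulVec, one_mulVec, mulVec_add,
    mulVec_add, mulVec_smul, mulVec_smul, mulVec_smul, hiso u hu, hiso v hv, hiso z hz]
  module

end sigma

end Kit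

/-! ### the frozen frame -/

/-- BHRSU-[K-ISO] -/
theorem exists_isotropic (hF : Fintype.card F = q ^ 2) (hn : 2 ≤ n) :
    ∃ v : Fin n → F, v ≠ 0 ∧ hermForm n F q v v = 0 := by
  obtain ⟨σ, hσ, hσ2⟩ := Cfsg.Agent.Lib.Helper13.exists_frob hF
  have hne := frob_ne_id σ hF hσ
  obtain ⟨u₁, v₁, hp⟩ := exists_HP σ hne hσ2 hn
  exact ⟨u₁, hp.ne_zero, by rw [hermForm_eq_hf σ hσ]; exact hp.uu⟩

theorem span_isotropic (hF : Fintype.card F = q ^ 2) (hn : 2 ≤ n) :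
    Submodule.span F {v : Fin n → F | hermForm n F q v v = 0} = ⊤ := by
  obtain ⟨σ, hσ, hσ2⟩ := Cfsg.Agent.Lib.Helper13.exists_frob hF
  have hne := frob_ne_id σ hF hσ
  rw [eq_top_iff]
  intro y _
  obtain ⟨u, v, z, a, b, c, hu, hv, hz, rfl⟩ := Kit.exists_iso_decomp σ hne hσ2 hn y
  have hmem : ∀ w : Fin n → F, hf σ w w = 0 →
      w ∈ Submodule.span F {v : Fin n → F | hermForm n F q v v = 0} := by
    intro w hw
    apply Submodule.subset_span
    show hermForm n F q w w = 0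
    rw [hermForm_eq_hf σ hσ]; exact hw
  exact Submodule.add_mem _ (Submodule.add_mem _ (Submodule.smul_mem _ _ (hmem u hu))
    (Submodule.smul_mem _ _ (hmem v hv))) (Submodule.smul_mem _ _ (hmem z hz))

theorem scalar_of_isotropic_eigen (hF : Fintype.card F = q ^ 2) (hn : 2 ≤ n) (M : Matrix (Fin n) (Fin n) F)
    (h : ∀ v : Fin n → F, hermForm n F q v v = 0 → ∃ l : F, M *ᵥ v = l • v) :
    ∃ c : F, M = c • (1 : Matrix (Fin n) (Fin n) F) := by
  obtain ⟨σ, hσ, hσ2⟩ := Cfsg.Agent.Lib.Helper13.exists_frob hF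
  have hne := frob_ne_id σ hF hσ
  apply Kit.scalar_of_isotropic_eigen' σ hne hσ2 hn M
  intro u _ hu
  apply h u
  rw [hermForm_eq_hf σ hσ]; exact hu

namespace Kit

/-- a subspace invariant under all unitary transvections and containing `w` contains every isotropic `v`
not orthogonal to `w` -/
theorem mem_of_invariant (σ : F →+* F) (hσ : ∀ x, σ x = x ^ q) (hσ2 : ∀ a, σ (σ a) = a)
    (hne : σ ≠ RingHom.id F) (W : Submodule F (Fin n → F))
    (hW : ∀ s ∈ matrixSet (SUg n F q), W.map (Matrix.toLin' s) ≤ W) (w v : Fin n → F) (hw : w ∈ W)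
    (hv : hf σ v v = 0) (hwv : hf σ w v ≠ 0) : v ∈ W := by
  obtain ⟨ε, hε, hε0⟩ := exists_trace_zero_ne σ hne hσ2
  have hmem : tvGL σ v ε hv ∈ SUg n F q := TG_le_SUg σ hσ hσ2 (tvGL_mem σ v ε hv hε0)
  have h1 : tv σ v ε *ᵥ w ∈ W := by
    apply hW (tv σ v ε) ⟨tvGL σ v ε hv, hmem, rfl⟩
    exact ⟨w, hw, by rw [Matrix.toLin'_apply]⟩
  rw [tv_mulVec] at h1
  have h2 : (ε * hf σ w v) • v ∈ W := by
    have := W.sub_mem h1 hw
    rwa [add_sub_cancel_left] at this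
  have h3 : ε * hf σ w v ≠ 0 := mul_ne_zero hε hwv
  have := W.smul_mem (ε * hf σ w v)⁻¹ h2
  rwa [smul_smul, inv_mul_cancel₀ h3, one_smul] at this

end Kit

/-- BHRSU-[K-IRR] -/
theorem SUg_absIrred (hF : Fintype.card F = q ^ 2) (hn : 2 ≤ n) :
    ActsAbsolutelyIrreducibly (matrixSet (SUg n F q)) := by
  obtain ⟨σ, hσ, hσ2⟩ := Cfsg.Agent.Lib.Helper13.exists_frob hF
  have hne := frob_ne_id σ hF hσ
  constructor
  · intro W hW
    by_cases hbot : W = ⊥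
    · exact Or.inl hbot
    right
    obtain ⟨w, hwW, hw0⟩ := (Submodule.ne_bot_iff W).mp hbot
    -- an isotropic non-zero vector in `W`
    obtain ⟨u, huW, hu0, huu⟩ : ∃ u ∈ W, u ≠ 0 ∧ hf σ u u = 0 := by
      by_cases hww : hf σ w w = 0
      · exact ⟨w, hwW, hw0, hww⟩
      obtain ⟨v, hv, hwv⟩ : ∃ v : Fin n → F, hf σ v v = 0 ∧ hf σ w v ≠ 0 := by
        by_contra hcon
        push Not at hcon
        apply hww
        obtain ⟨a, b, z, α, β, γ, ha, hb, hz, hdec⟩ := Kit.exists_iso_decomp σ hne hσ2 hn w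
        have h0 : hf σ w (α • a + β • b + γ • z) = 0 := by
          simp only [hf_add_right, hf_smul_right, hcon a ha, hcon b hb, hcon z hz]
          ring
        rw [← hdec] at h0
        exact h0
      refine ⟨v, Kit.mem_of_invariant σ hσ hσ2 hne W hW w v hwW hv hwv, ?_, hv⟩
      rintro rfl
      apply hwv
      have : hf σ w (0 : Fin n → F) = 0 := by simp [hf]
      exact this
    have hall : ∀ z : Fin n → F, hf σ z z = 0 → z ∈ W := by
      intro z hz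
      by_cases hz0 : z = 0
      · rw [hz0]; exact W.zero_mem
      obtain ⟨w', hw'w', hw'u, hw'z⟩ := exists_common σ hne hσ2 u z hu0 hz0 huu hz
      have huw' : hf σ u w' ≠ 0 := by
        rw [hf_symm σ hσ2]
        exact map_ne_zero_of_invol σ hσ2 hw'u
      have hw'W := Kit.mem_of_invariant σ hσ hσ2 hne W hW u w' huW hw'w' huw'
      exact Kit.mem_of_invariant σ hσ hσ2 hne W hW w' z hw'W hz hw'z
    rw [eq_top_iff]
    intro y _
    obtain ⟨a, b, z, α, β, γ, ha, hb, hz, rfl⟩ := Kit.exists_iso_decomp σ hne hσ2 hn y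
    exact W.add_mem (W.add_mem (W.smul_mem _ (hall a ha)) (W.smul_mem _ (hall b hb)))
      (W.smul_mem _ (hall z hz))
  · intro M hM
    apply Kit.scalar_of_isotropic_eigen' σ hne hσ2 hn M
    intro v hv0 hv
    obtain ⟨ε, hε, hε0⟩ := exists_trace_zero_ne σ hne hσ2
    have hmem : tvGL σ v ε hv ∈ SUg n F q :=
      Kit.TG_le_SUg σ hσ hσ2 (tvGL_mem σ v ε hv hε0)
    have hcomm : M * tv σ v ε = tv σ v ε * M := hM (tv σ v ε) ⟨tvGL σ v ε hv, hmem, rfl⟩
    obtain ⟨x, hx⟩ := exists_hf_ne_zero σ hσ2 v hv0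
    have h1 := congrArg (fun A : Matrix (Fin n) (Fin n) F => A *ᵥ x) hcomm
    simp only [← mulVec_mulVec, tv_mulVec, mulVec_add, mulVec_smul] at h1
    have h2 : (ε * hf σ x v) • (M *ᵥ v) = (ε * hf σ (M *ᵥ x) v) • v := by
      have := add_left_cancel h1
      exact this
    have h3 : ε * hf σ x v ≠ 0 := mul_ne_zero hε hx
    refine ⟨(ε * hf σ x v)⁻¹ * (ε * hf σ (M *ᵥ x) v), ?_⟩
    rw [← smul_smul, ← h2, smul_smul, inv_mul_cancel₀ h3, one_smul]

end Cfsg.Agent.Lib.Helper37.BHRSU
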