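/-
BHRSU-[K-NORMAL] (helper37): a subgroup of `SU_n(q)`, `n ≥ 4`, normalised by `SU_n(q)` is scalar or everything
(Iwasawa's argument, replicating the `key` step of `Cfsg.Agent.Lib.Helper37.simple_center_quot`).
-/
import Mathlib
import Cfsg.Prelude.Def_GeometricClasses
import Cfsg.Prelude.Def_ClassicalGeometry
import Cfsg.Agent.Lib.Helper37.BHRSU.Kit

set_option linter.unusedSectionVars false

namespace Cfsg.Agent.Lib.Helper37.BHRSU

open Cfsg Cfsg.Geo Cfsg.Agent.Lib.Helper70.AschU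
open Matrix Cfsg.Agent.S0837 Cfsg.Agent.S0781 Cfsg.Agent.S2644 Cfsg.Agent.Lib.Helper37
open scoped MatrixGroups

variable {F : Type*} [Field F] [Fintype F] {n q : ℕ}

/-- BHRSU-[K-NORMAL] -/
theorem normal_le_scalars_or_eq (hF : Fintype.card F = q ^ 2) (hn : 4 ≤ n) (N : Subgroup (GL (Fin n) F))
    (hN : N ≤ SUg n F q) (hnorm : ∀ g ∈ SUg n F q, ∀ x ∈ N, g * x * g⁻¹ ∈ N) :
    N ≤ scalars (Fin n) F ∨ N = SUg n F q := by
  obtain ⟨σ, hσ, hσ2⟩ := Cfsg.Agent.Lib.Helper13.exists_frob hF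
  have hne := frob_ne_id σ hF hσ
  have hST := Kit.SUg_eq_TG hF hn σ hσ hσ2
  by_cases hNZ : N ≤ scalars (Fin n) F
  · exact Or.inl hNZ
  right
  obtain ⟨n₀, hn₀, hn₀Z⟩ : ∃ n₀ ∈ N, n₀ ∉ scalars (Fin n) F := by
    by_contra hcon
    push Not at hcon
    exact hNZ hcon
  -- the abstract group
  let ι : ↥(SUg n F q) →* GL (Fin n) F := (SUg n F q).subtype
  have hinj : Function.Injective ι := Subgroup.subtype_injective _
  have hTG : ∀ g, ι g ∈ TG σ n := by
    intro g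
    rw [← hST]
    exact g.2
  have hex : ∀ t ∈ TG σ n, ∃ g, ι g = t := by
    intro t ht
    rw [← hST] at ht
    exact ⟨⟨t, ht⟩, rfl⟩
  have hperf : commutator ↥(SUg n F q) = ⊤ := by
    apply Subgroup.map_injective hinj
    rw [commutator_def, Subgroup.map_commutator]
    have htop : (⊤ : Subgroup ↥(SUg n F q)).map ι = SUg n F q := by
      rw [← MonoidHom.range_eq_map]
      exact Subgroup.range_subtype _
    rw [htop]
    exact commutator_SUg hF hn
  have hNn : (N.subgroupOf (SUg n F q)).Normal := by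
    constructor
    intro x hx g
    rw [Subgroup.mem_subgroupOf] at hx ⊢
    exact hnorm g g.2 x hx
  obtain ⟨u₀, hu₀, huu₀, hmove⟩ : ∃ u₀ : Fin n → F, u₀ ≠ 0 ∧ hf σ u₀ u₀ = 0 ∧
      ¬ ∃ l : F, (n₀ : Matrix (Fin n) (Fin n) F) *ᵥ u₀ = l • u₀ := by
    by_contra hcon
    push Not at hcon
    apply hn₀Z
    obtain ⟨c, hc⟩ := Kit.scalar_of_isotropic_eigen' σ hne hσ2 (by omega) (n₀ : Matrix (Fin n) (Fin n) F) hcon
    rw [mem_scalars_iff]
    have hc0 : c ≠ 0 := by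
      rintro rfl
      have h1 : (n₀ : Matrix (Fin n) (Fin n) F) = 0 := by rw [hc, zero_smul]
      have h2 : ((n₀⁻¹ * n₀ : GL (Fin n) F) : Matrix (Fin n) (Fin n) F) = 0 := by
        rw [Units.val_mul, h1, mul_zero]
      rw [inv_mul_cancel, Units.val_one] at h2
      have : Nontrivial (Fin n) := ⟨⟨⟨0, by omega⟩, ⟨1, by omega⟩, by simp [Fin.ext_iff]⟩⟩
      have h3 := congrFun (congrFun h2 ⟨0, by omega⟩) ⟨0, by omega⟩
      simp at h3
    exact ⟨Units.mk0 c hc0, hc⟩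
  have hn₀S : n₀ ∈ SUg n F q := hN hn₀
  have horb := orbit_all σ ι hne hσ2 (by omega) (Or.inl hn) hTG hex (N.subgroupOf (SUg n F q)) u₀ hu₀ huu₀
    ⟨n₀, hn₀S⟩ (by rw [Subgroup.mem_subgroupOf]; exact hn₀) hmove
  have hsup := sup_Tsub_eq_top σ ι hσ2 hinj hTG hex (N.subgroupOf (SUg n F q)) u₀ huu₀ horb
  have hle := hNn.commutator_le_of_self_sup_commutative_eq_top hsup (Tsub_comm σ ι hinj u₀ huu₀)
  rw [hperf, top_le_iff] at hle
  apply le_antisymm hN
  intro g hg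
  have : (⟨g, hg⟩ : ↥(SUg n F q)) ∈ N.subgroupOf (SUg n F q) := by rw [hle]; exact Subgroup.mem_top _
  rw [Subgroup.mem_subgroupOf] at this
  exact this

end Cfsg.Agent.Lib.Helper37.BHRSU
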