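/-
BHRSU-[MAXU] in `_of` form (helper37): a maximal subgroup of `SU_n(q)` is `M ⊓ SL` for a member `M`, or residual, given [PROPER]
as a hypothesis.
-/
import Mathlib
import Cfsg.Prelude.Def_GeometricClasses
import Cfsg.Prelude.Def_ClassicalGeometry
import Cfsg.Agent.Lib.Helper37.BHRSU.Normal

set_option linter.unusedSectionVars false

namespace Cfsg.Agent.Lib.Helper37.BHRSU

open Cfsg Cfsg.Geo Cfsg.Agent.Lib.Helper70.AschU
open Matrix Cfsg.Agent.S0837 Cfsg.Agent.S0781 Cfsg.Agent.S2644 Cfsg.Agent.Lib.Helper37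
open scoped MatrixGroups

variable {F : Type*} [Field F] [Fintype F] {n q : ℕ}

/-- every member of a geometric class lies in `GU` -/
theorem le_GU_of_inUnitaryClassR (M : Subgroup (GL (Fin n) F)) (hM : InUnitaryClassR n F q M) :
    M ≤ GU n F q := by
  rcases hM with (h | h | h | h | h | h | h | h | h | h) | h
  · obtain ⟨W, -, -, rfl⟩ := h; exact inf_le_right
  · obtain ⟨W, -, -, -, rfl⟩ := h; exact inf_le_right
  · obtain ⟨t, k, D, -, rfl⟩ := h; exact inf_le_right
  · obtain ⟨k, D, -, -, -, rfl⟩ := h; exact inf_le_right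
  · obtain ⟨F₀, r, P, -, -, -, -, rfl⟩ := h; exact inf_le_right
  · obtain ⟨F₀, P, -, -, -, rfl⟩ := h; exact inf_le_right
  · obtain ⟨F₀, P, ζ, -, -, -, -, -, -, rfl⟩ := h; exact inf_le_right
  · obtain ⟨r, K, -, -, -, -, rfl⟩ := h; exact inf_le_right
  · obtain ⟨n₁, n₂, e, P, f₁, f₂, -, -, -, -, -, rfl⟩ := h; exact inf_le_right
  · obtain ⟨k, t, e, P, f₁, -, -, -, -, -, rfl⟩ := h; exact inf_le_right
  · obtain ⟨r, R, p, e, k, -, -, -, -, -, -, -, rfl⟩ := h; exact inf_le_right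

/-- `SU_n(q)`, `n ≥ 2`, is not scalar -/
theorem not_SUg_le_scalars (hF : Fintype.card F = q ^ 2) (hn : 2 ≤ n) :
    ¬ SUg n F q ≤ scalars (Fin n) F := by
  intro hle
  obtain ⟨σ, hσ, hσ2⟩ := Cfsg.Agent.Lib.Helper13.exists_frob hF
  have hne := frob_ne_id σ hF hσ
  obtain ⟨u₁, v₁, hp⟩ := exists_HP σ hne hσ2 hn
  obtain ⟨ε, hε, hε0⟩ := exists_trace_zero_ne σ hne hσ2
  have hmem : tvGL σ u₁ ε hp.uu ∈ SUg n F q := Kit.TG_le_SUg σ hσ hσ2 (tvGL_mem σ u₁ ε hp.uu hε0)
  obtain ⟨c, hc⟩ := (mem_scalars_iff _).mp (hle hmem)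
  have hc' : tv σ u₁ ε = (c : F) • (1 : Matrix (Fin n) (Fin n) F) := hc
  -- apply to `u₁`: `c = 1`
  have h1 := congrArg (fun A : Matrix (Fin n) (Fin n) F => A *ᵥ u₁) hc'
  simp only [tv_mulVec, hp.uu, mul_zero, zero_smul, add_zero, Matrix.smul_mulVec, one_mulVec] at h1
  have hc1 : (c : F) = 1 := by
    have h2 : ((c : F) - 1) • u₁ = 0 := by rw [sub_smul, one_smul, ← h1, sub_self]
    rcases smul_eq_zero.mp h2 with h3 | h3
    · linear_combination h3
    · exact absurd h3 hp.ne_zero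
  -- apply to `v₁`
  have h4 := congrArg (fun A : Matrix (Fin n) (Fin n) F => A *ᵥ v₁) hc'
  simp only [tv_mulVec, one_mulVec, hc1, one_smul] at h4
  have h5 : (ε * hf σ v₁ u₁) • u₁ = 0 := by
    have := add_left_cancel (a := v₁) (b := (ε * hf σ v₁ u₁) • u₁) (c := 0) (by rw [add_zero]; exact h4)
    exact this
  rw [hp.vu, mul_one] at h5
  rcases smul_eq_zero.mp h5 with h6 | h6
  · exact hε h6
  · exact hp.ne_zero h6

/-- BHRSU-[MAXU], `_of` form: [PROPER] as a hypothesis -/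
theorem maximal_eq_member_of (hA : AschUR n F q) (hF : Fintype.card F = q ^ 2) (hn : 4 ≤ n)
    (hprop : ∀ M : Subgroup (GL (Fin n) F), InUnitaryClassR n F q M → ¬ SUg n F q ≤ M)
    (H : Subgroup (GL (Fin n) F)) (hH : IsMaximalIn (SUg n F q) H) :
    (∃ M : Subgroup (GL (Fin n) F), InUnitaryClassR n F q M ∧ H = M ⊓ specialLinear (Fin n) F) ∨
      InUnitaryResidualClass H := by
  have hHle : H ≤ SUg n F q := hH.1.le
  have hproper : H ⊔ (scalars (Fin n) F ⊓ SUg n F q) ≠ SUg n F q := by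
    intro heq
    have hnorm : ∀ g ∈ SUg n F q, ∀ x ∈ H, g * x * g⁻¹ ∈ H := by
      have hle : H ⊔ (scalars (Fin n) F ⊓ SUg n F q) ≤ Subgroup.normalizer (H : Set (GL (Fin n) F)) := by
        apply sup_le Subgroup.le_normalizer
        intro z hz
        rw [Subgroup.mem_normalizer_iff]
        intro h
        obtain ⟨c, hc⟩ := (mem_scalars_iff z).mp hz.1
        have hcomm : z * h = h * z := by
          apply Units.ext
          rw [Units.val_mul, Units.val_mul, hc, Matrix.smul_mul, Matrix.mul_smul, one_mul, mul_one]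
        have : z * h * z⁻¹ = h := by rw [hcomm, mul_inv_cancel_right]
        rw [this]
      intro g hg x hx
      rw [← heq] at hg
      exact (Subgroup.mem_normalizer_iff.mp (hle hg) x).mp hx
    rcases normal_le_scalars_or_eq hF hn H hHle hnorm with h | h
    · apply not_SUg_le_scalars (F := F) (n := n) hF (by omega)
      rw [← heq]
      exact sup_le h inf_le_left
    · exact hH.1.ne h
  rcases hA H hHle hproper with ⟨M, hM, hle⟩ | hres
  · left
    refine ⟨M, hM, ?_⟩
    have h1 : H ≤ M ⊓ specialLinear (Fin n) F := le_inf hle (hHle.trans inf_le_right)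
    have h2 : M ⊓ specialLinear (Fin n) F ≤ SUg n F q :=
      inf_le_inf_right _ (le_GU_of_inUnitaryClassR M hM)
    rcases hH.2 _ h1 h2 with h | h
    · exact h.symm
    · exact absurd (h.ge.trans inf_le_left) (hprop M hM)
  · exact Or.inr hres

end Cfsg.Agent.Lib.Helper37.BHRSU
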