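/-
BHRSU-[MAXU] (helper37), exact Skel statement: a maximal subgroup of `SU_n(q)` (`4 ≤ n ≤ 26`) is `M ⊓ SL` for a member `M` of a
geometric class, or residual.  (`maximal_eq_member_of` + helper87's [PROPER].)
-/
import Mathlib
import Cfsg.Prelude.Def_GeometricClasses
import Cfsg.Prelude.Def_ClassicalGeometry
import Cfsg.Agent.Lib.Helper37.BHRSU.MaxOf
import Cfsg.Agent.Lib.Helper87.BhrsuProper

set_option autoImplicit false

namespace Cfsg.Agent.Lib.Helper37.BHRSU

open Cfsg Cfsg.Geo Cfsg.Agent.Lib.Helper70.AschU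
open scoped MatrixGroups

variable {F : Type*} [Field F] [Fintype F] {n q : ℕ}

/-- BHRSU-[MAXU] -/
theorem maximal_eq_member (hA : AschUR n F q) (hF : Fintype.card F = q ^ 2) (hn : 4 ≤ n) (hn' : n ≤ 26)
    (H : Subgroup (GL (Fin n) F)) (hH : IsMaximalIn (SUg n F q) H) :
    (∃ M : Subgroup (GL (Fin n) F), InUnitaryClassR n F q M ∧ H = M ⊓ specialLinear (Fin n) F) ∨
      InUnitaryResidualClass H :=
  maximal_eq_member_of hA hF hn (not_SUg_le_of_inUnitaryClassR hF hn hn') H hH

end Cfsg.Agent.Lib.Helper37.BHRSU
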