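/-
BHRSU (helper37): the input `AschUR n F q` of the SU row sheet, from helper70's refined unitary Aschbacher theorem
`Cfsg.Agent.Lib.Helper70.AschU.aschbacher_unitary_R`.
-/
import Mathlib
import Cfsg.Prelude.Def_GeometricClasses
import Cfsg.Agent.Lib.Helper37.BHRSU.Defs
import Cfsg.Agent.Lib.Helper70.AschU.Main

set_option autoImplicit false

namespace Cfsg.Agent.Lib.Helper37.BHRSU

open Cfsg Cfsg.Geo Cfsg.Agent.Lib.Helper70.AschU
open scoped MatrixGroups

/-- the refined unitary Aschbacher theorem in the shape the BHRSU rows take as input -/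
theorem aschUR {F : Type*} [Field F] [Fintype F] {n q : ℕ} (hF : Fintype.card F = q ^ 2) (hn : 3 ≤ n) :
    AschUR n F q := by
  intro H hH _
  exact aschbacher_unitary_R hF hn H (hH.trans inf_le_left)

end Cfsg.Agent.Lib.Helper37.BHRSU
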